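import Mathlib
import Groth.Agent.Lib.Helper2.Curvi

set_option autoImplicit false
universe u

namespace H5ArSing

open IsLocalRing Polynomial

/-- residue field of a finite local algebra over an alg. closed field is `k`. -/
theorem hdec_of_isAlgClosed (k B : Type u) [Field k] [IsAlgClosed k]
    [CommRing B] [IsLocalRing B] [Algebra k B] [Module.Finite k B] :
    ∀ b : B, ∃ c : k, b - algebraMap k B c ∈ maximalIdeal B := by
  intro b
  haveI : Module.Finite k (ResidueField B) :=
    Module.Finite.of_surjective (IsScalarTower.toAlgHom k B (ResidueField B)).toLinearMap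
      (IsLocalRing.residue_surjective)
  haveI : Algebra.IsAlgebraic k (ResidueField B) := Algebra.IsAlgebraic.of_finite k _
  obtain ⟨c, hc⟩ := IsAlgClosed.algebraMap_bijective_of_isIntegral (k := k)
    (K := ResidueField B) |>.2 (residue B b)
  refine ⟨c, ?_⟩
  rw [← IsLocalRing.residue_eq_zero_iff, map_sub, ← hc,
    IsScalarTower.algebraMap_apply k B (ResidueField B), IsLocalRing.ResidueField.algebraMap_eq,
    sub_self]

theorem main14091 (k B : Type u) [Field k] [IsAlgClosed k]
    [CommRing B] [IsLocalRing B] [Algebra k B] [Module.Finite k B]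
    (hcurv : Module.finrank (IsLocalRing.ResidueField B) (IsLocalRing.CotangentSpace B) ≤ 1) :
    Nonempty (B ≃ₐ[k] (Polynomial k ⧸ Ideal.span {(X : Polynomial k) ^ Module.finrank k B})) := by
  haveI : IsArtinianRing B := IsArtinianRing.of_finite k B
  haveI : IsNoetherianRing B := inferInstance
  rw [finrank_cotangentSpace_le_one_iff] at hcurv
  obtain ⟨t, ht⟩ := hcurv
  exact Groth.Agent.H2.Curvi.curvilinear k B (hdec_of_isAlgClosed k B) t ht _ rfl

end H5ArSing
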