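import Mathlib
import Groth.Agent.Lib.Helper5.ArSing.Curvi.A

set_option autoImplicit false
universe u

namespace H5ArSing

open IsLocalRing Polynomial

section

variable (k : Type u) [Field k] (n : ℕ)

/-- the truncated polynomial ring -/
abbrev TP : Type u := Polynomial k ⧸ Ideal.span {(X : Polynomial k) ^ n}

theorem tp_isLocalRing (hn : 0 < n) : IsLocalRing (TP k n) := by
  haveI : Nontrivial (TP k n) := by
    refine Ideal.Quotient.nontrivial_iff.mpr ?_
    intro h
    rw [Ideal.span_singleton_eq_top] at h
    have := Polynomial.degree_eq_zero_of_isUnit h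
    rw [Polynomial.degree_X_pow] at this
    have : n = 0 := by exact_mod_cast this
    omega
  refine IsLocalRing.of_is_unit_or_is_unit_of_add_one ?_
  intro a b hab
  obtain ⟨p, rfl⟩ := Ideal.Quotient.mk_surjective a
  obtain ⟨q, rfl⟩ := Ideal.Quotient.mk_surjective b
  have key : ∀ p : k[X], p.coeff 0 ≠ 0 →
      IsUnit (Ideal.Quotient.mk (Ideal.span {(X : Polynomial k) ^ n}) p) := by
    intro p hp
    have hcop : IsCoprime (X : k[X]) p := by
      rw [(Polynomial.prime_X (R := k)).irreducible.coprime_iff_not_dvd, Polynomial.X_dvd_iff]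
      exact hp
    obtain ⟨u, v, huv⟩ := (hcop.pow_left (m := n)).symm
    refine IsUnit.of_mul_eq_one (Ideal.Quotient.mk _ u) ?_
    rw [← map_mul, ← map_one (Ideal.Quotient.mk _), Ideal.Quotient.mk_eq_mk_iff_sub_mem, ← huv]
    have : p * u - (u * p + v * X ^ n) = -v * X ^ n := by ring
    rw [this]
    exact Ideal.mul_mem_left _ _ (Ideal.subset_span rfl)
  rw [← map_add, ← map_one (Ideal.Quotient.mk _), Ideal.Quotient.mk_eq_mk_iff_sub_mem,
    Ideal.mem_span_singleton] at hab
  have h0 : (p + q - 1).coeff 0 = 0 := by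
    have : (X : k[X]) ∣ p + q - 1 := (dvd_pow_self X (by omega)).trans hab
    exact Polynomial.X_dvd_iff.mp this
  rw [coeff_sub, coeff_add, coeff_one_zero] at h0
  by_cases hp : p.coeff 0 = 0
  · right
    apply key
    intro hq
    rw [hp, hq] at h0
    simp at h0
  · left
    exact key p hp

end

section

variable {k : Type u} [Field k] {B : Type u} [CommRing B] [Algebra k B] [Module.Finite k B]

theorem sub_isUnit (A : Subalgebra k B) (a : A) (ha : IsUnit (a : B)) : IsUnit a := by
  haveI : IsArtinianRing A := IsArtinianRing.of_finite k A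
  apply IsArtinianRing.isUnit_of_mem_nonZeroDivisors
  rw [mem_nonZeroDivisors_iff_right]
  intro x hx
  have : (x : B) * (a : B) = 0 := by
    rw [← Subalgebra.coe_mul, hx, Subalgebra.coe_zero]
  have h2 := ha.mul_left_eq_zero.mp this
  exact Subtype.ext h2

theorem sub_isLocalRing [IsLocalRing B] (A : Subalgebra k B) : IsLocalRing A := by
  haveI : Nontrivial A := inferInstance
  refine IsLocalRing.of_is_unit_or_is_unit_of_add_one ?_
  intro a b hab
  have : (a : B) + (b : B) = 1 := by
    rw [← Subalgebra.coe_add, hab, Subalgebra.coe_one]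
  rcases IsLocalRing.isUnit_or_isUnit_of_add_one this with h | h
  · exact Or.inl (sub_isUnit A a h)
  · exact Or.inr (sub_isUnit A b h)

end

end H5ArSing
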