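import Mathlib
import Groth.Agent.Lib.Helper5.ArSing.Curvi.B

set_option autoImplicit false
universe u

namespace H5ArSing

open IsLocalRing Polynomial

/-- In a local ring, if the extension `J` of an ideal `I` along `φ` is principal, then it is
generated by the image of a single element of `I`. -/
theorem exists_mem_map_eq_span {A B : Type*} [CommRing A] [CommRing B] [IsLocalRing B]
    (φ : A →+* B) (I : Ideal A) (hJ : (I.map φ).IsPrincipal) :
    ∃ a ∈ I, I.map φ = Ideal.span {φ a} := by
  obtain ⟨g, hg⟩ := hJ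
  change I.map φ = Ideal.span {g} at hg
  by_cases hex : ∃ a ∈ I, ∃ c : B, IsUnit c ∧ φ a = c * g
  · obtain ⟨a, haI, c, hc, hac⟩ := hex
    refine ⟨a, haI, ?_⟩
    rw [hg, hac]
    exact (Ideal.span_singleton_mul_left_unit hc g).symm
  · push Not at hex
    have hle : I.map φ ≤ maximalIdeal B • I.map φ := by
      rw [Ideal.map_le_iff_le_comap]
      intro a ha
      rw [Ideal.mem_comap]
      have h1 : φ a ∈ Ideal.span {g} := hg ▸ Ideal.mem_map_of_mem φ ha
      obtain ⟨c, hc⟩ := Ideal.mem_span_singleton'.mp h1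
      have hcu : ¬ IsUnit c := fun hu => hex a ha c hu hc.symm
      have hcm : c ∈ maximalIdeal B := (IsLocalRing.mem_maximalIdeal c).mpr hcu
      rw [← hc, smul_eq_mul]
      refine Ideal.mul_mem_mul hcm ?_
      rw [hg]
      exact Ideal.subset_span rfl
    have hfg : (I.map φ).FG := by
      rw [hg]
      exact ⟨{g}, by simp⟩
    have hbot : I.map φ = ⊥ :=
      Submodule.eq_bot_of_le_smul_of_le_jacobson_bot _ _ hfg hle
        (IsLocalRing.jacobson_eq_maximalIdeal ⊥ bot_ne_top).ge
    refine ⟨0, I.zero_mem, ?_⟩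
    rw [hbot, map_zero]
    simp

theorem main14087 (k : Type u) [Field k] [IsAlgClosed k]
    (n : ℕ) (hn : 0 < n)
    (A : Subalgebra k (Polynomial k ⧸ Ideal.span {(X : Polynomial k) ^ n}))
    [Module.Flat A (Polynomial k ⧸ Ideal.span {(X : Polynomial k) ^ n})] :
    ∃ m : ℕ, Nonempty (A ≃ₐ[k] (Polynomial k ⧸ Ideal.span {(X : Polynomial k) ^ m})) := by
  haveI hfinB : Module.Finite k (TP k n) :=
    (AdjoinRoot.powerBasis' (Polynomial.monic_X_pow n)).finite
  haveI : IsLocalRing (TP k n) := tp_isLocalRing k n hn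
  haveI : IsLocalRing A := sub_isLocalRing A
  haveI : Module.Finite k A := inferInstance
  haveI : IsArtinianRing A := IsArtinianRing.of_finite k A
  haveI : IsLocalHom (algebraMap A (TP k n)) := ⟨fun a ha => sub_isUnit A a ha⟩
  haveI hflat' : @Module.Flat A (TP k n) _ _ Algebra.toModule := ‹Module.Flat A _›
  haveI hff : @Module.FaithfullyFlat A (TP k n) _ _ Algebra.toModule :=
    Module.FaithfullyFlat.of_flat_of_isLocalHom
  haveI : IsPrincipalIdealRing (TP k n) :=
    IsPrincipalIdealRing.of_surjective (Ideal.Quotient.mk _) Ideal.Quotient.mk_surjective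
  obtain ⟨a, -, ha⟩ := exists_mem_map_eq_span (algebraMap A (TP k n)) (maximalIdeal A)
    (IsPrincipalIdealRing.principal _)
  have hI : maximalIdeal A = Ideal.span {a} := by
    have h2 : Ideal.span {algebraMap A (TP k n) a}
        = (Ideal.span {a}).map (algebraMap A (TP k n)) := by
      rw [Ideal.map_span, Set.image_singleton]
    rw [← Ideal.comap_map_eq_self_of_faithfullyFlat (B := TP k n) (maximalIdeal A), ha, h2,
      Ideal.comap_map_eq_self_of_faithfullyFlat]
  have hcurv : Module.finrank (ResidueField A) (CotangentSpace A) ≤ 1 := by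
    rw [finrank_cotangentSpace_le_one_iff]
    exact ⟨⟨a, hI⟩⟩
  exact ⟨_, main14091 k A hcurv⟩

end H5ArSing
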